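import Groth.Agent.CurveCd.Devissage
import Groth.Agent.VarDim.Top
import Groth.Agent.FieldCd.CurveGeneric
import Groth.Agent.GalTorLib.Basic
import Groth.Agent.S0208
import Mathlib.FieldTheory.PurelyInseparable.Basic
import Mathlib.RingTheory.AlgebraicIndependent.Transcendental

/-! cohomological dimension of sheaves of rational vector spaces and of torsion sheaves on curves -/

universe u

open CategoryTheory CategoryTheory.Limits AlgebraicGeometry Opposite TopologicalSpace

namespace Groth.Agent.CurveCd

set_option autoImplicit false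
set_option maxHeartbeats 1000000
set_option synthInstance.maxHeartbeats 400000
set_option backward.isDefEq.respectTransparency false
set_option backward.isDefEq.respectTransparency.types false
set_option linter.style.haveILetI false

variable {X : Scheme.{u}}

/-- cohomology of one point etale objects is computed on finite extensions -/
theorem subsingleton_H_pt {k : Type u} [Field k] (G : EtCoh.Ab (Spec (CommRingCat.of k)))
    (T : (Spec (CommRingCat.of k)).Etale) (hne : Nonempty T.left) (hT : Subsingleton T.left) (i : ℕ)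
    (h : ∀ (L : Type u) [Field L] [Algebra k L] [FiniteDimensional k L] [Algebra.IsSeparable k L]
      (e : Spec (CommRingCat.of L) ⟶ T.left),
      Subsingleton (EtCoh.H (Spec (CommRingCat.of L)) ((EtCoh.pull e).obj ((EtCoh.pull T.hom).obj G)) i)) :
    Subsingleton (EtCoh.H T.left ((EtCoh.pull T.hom).obj G) i) := by
  obtain ⟨L, _, _, _, _, e, he⟩ := FieldCd.exists_pt_iso T hne hT
  haveI : ∀ {A B : Scheme.{u}} (g : A ⟶ B), PreservesFiniteLimits (EtCoh.pull g) := fun g => EtContLib.pfl g
  have hL := h L e.hom
  exact subsingleton_of_forall_eq 0 fun x =>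
    (Groth.Agent.S0642.result e.hom _ i).1 ((@Subsingleton.elim _ hL _ _).trans (map_zero _).symm)

/-- sheaves of rational vector spaces vanish above the dimension -/
theorem subsingleton_H_of_isQSheaf [IsNoetherian X] : ∀ (d : ℕ) (F : EtCoh.Ab X), IsQSheaf F →
    (∀ x ∈ EtPBC.supp F, Order.height x ≤ (d : ℕ∞)) → ∀ i, d < i → Subsingleton (EtCoh.H X F i) := by
  intro d
  induction d using Nat.strong_induction_on with
  | _ d ih =>
    intro F hF hs i hi
    obtain ⟨j, rfl⟩ : ∃ j, i = j + 1 := ⟨i - 1, by omega⟩
    refine devissage IsQSheaf (fun F T h => IsQSheaf.suppSub T h)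
      (fun F y h => IsQSheaf.kernel _ h ((h.pull _).push _)) j {x | Order.height x ≤ (d : ℕ∞)}
      (fun y _ G hG => ?_) (fun y hy G hG => ?_) (fun z w hzw hz => ?_) F hF hs
    · have hQ : IsQSheaf ((EtCoh.pull (ptMor y)).obj G) := hG.pull _
      let K : Type u := X.residueField y
      refine subsingleton_H_push_of_ptAcyclic y _ (fun T hne hT n hn => ?_) (j + 1)
        (GalTorLib.subsingleton_of_uniquely_divisible K _ hQ (j + 1) (by omega))
      exact subsingleton_H_pt (k := K) _ T hne hT n fun L _ _ _ _ e =>
        GalTorLib.subsingleton_of_uniquely_divisible L _ ((hQ.pull _).pull _) n hn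
    · have hC : IsQSheaf (cokernel (ptUnit y G)) := IsQSheaf.cokernel _ hG ((hG.pull _).push _)
      have hlt : ∀ w ∈ EtPBC.supp (cokernel (ptUnit y G)), Order.height w < (d : ℕ∞) := fun w hw => by
        obtain ⟨hw1, hw2⟩ := supp_cokernel_unit y G hw
        have hle : w ≤ y := specializes_iff_mem_closure.2 hw1
        have hlt : w < y := lt_iff_le_not_ge.2 ⟨hle, fun h => hw2 (Set.mem_singleton_iff.2
          (Specializes.antisymm (h : w ⤳ y) (hle : y ⤳ w)).eq)⟩
        have hy' : Order.height y ≤ (d : ℕ∞) := hy
        have hfin : Order.height w < ⊤ :=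
          lt_of_le_of_lt ((Order.height_mono hle).trans hy') (ENat.natCast_lt_top d)
        exact (Order.height_strictMono hlt hfin).trans_le hy'
      rcases Nat.eq_zero_or_pos d with rfl | hd
      · refine subsingleton_H_of_supp (fun w hw => ?_) j
        exact absurd (hlt w hw) (by simp)
      · refine ih (d - 1) (by omega) _ hC (fun w hw => ?_) j (by omega)
        have h := hlt w hw
        rw [show d = d - 1 + 1 by omega, Nat.cast_add, Nat.cast_one] at h
        exact Order.le_of_lt_add_one h
    · exact (Order.height_mono (show w ≤ z from hzw)).trans hz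

/-- the dimension bounds the heights of the points -/
theorem height_le_of_dim {d : ℕ} (hd : topologicalKrullDim ↥X ≤ d) (x : X) : Order.height x ≤ (d : ℕ∞) := by
  rw [VarDim.topologicalKrullDim_eq_iSup_height] at hd
  have h : ((Order.height x : ℕ∞) : WithBot ℕ∞) ≤ ((d : ℕ∞) : WithBot ℕ∞) :=
    (le_iSup (fun z : X => ((Order.height z : ℕ∞) : WithBot ℕ∞)) x).trans hd
  exact WithBot.coe_le_coe.1 h

theorem subsingleton_H_of_uniquelyDivisible [IsNoetherian X] {d : ℕ} (hd : topologicalKrullDim ↥X ≤ d)
    (F : EtCoh.Ab X) (hF : IsQSheaf F) (i : ℕ) (hi : d < i) : Subsingleton (EtCoh.H X F i) :=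
  subsingleton_H_of_isQSheaf d F hF (fun x _ => height_le_of_dim hd x) i hi

section Curve

variable {k : Type u} [Field k] (f : X ⟶ Spec (CommRingCat.of k)) [LocallyOfFiniteType f]

include f

/-- residue fields of closed points over separably closed fields -/
theorem isSepClosed_residueField [IsSepClosed k] (x : X) (hx : IsClosed ({x} : Set X)) :
    IsSepClosed (X.residueField x) := by
  letI : Algebra k (X.residueField x) := (VarDim.resHom f x).toAlgebra
  haveI : Algebra.IsAlgebraic k (X.residueField x) := by
    refine trdeg_eq_zero_iff.1 ?_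
    show VarDim.tdeg f x = 0
    rw [← VarDim.deg_eq_tdeg, (VarDim.closedPoint_iff_deg_eq_zero f x).1 hx, Nat.cast_zero]
  exact Algebra.IsAlgebraic.isSepClosed (F := k)

/-- torsion sheaves on curves -/
theorem subsingleton_H_of_torsion [IsAlgClosed k] [IsNoetherian X] (hd : topologicalKrullDim ↥X ≤ 1)
    (F : EtCoh.Ab X) (hF : EtCoh.IsTorsion F) (q : ℕ) (hq : 3 ≤ q) : Subsingleton (EtCoh.H X F q) := by
  obtain ⟨i, rfl⟩ : ∃ i, q = i + 3 := ⟨q - 3, by omega⟩
  have hcl : ∀ y w : X, w ∈ closure {y} \ {y} → IsClosed ({w} : Set X) ∧ IsSepClosed (X.residueField w) := by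
    intro y w hw
    have hle : w ≤ y := specializes_iff_mem_closure.2 hw.1
    have hlt : w < y := lt_iff_le_not_ge.2 ⟨hle, fun h => hw.2 (Set.mem_singleton_iff.2
      (Specializes.antisymm (h : w ⤳ y) (hle : y ⤳ w)).eq)⟩
    have h1 := VarDim.deg_strictMono f hlt
    have h2 : VarDim.deg f y ≤ 1 := by
      have := height_le_of_dim (d := 1) (by exact_mod_cast hd) y
      rw [VarDim.height_eq_deg f] at this
      exact_mod_cast this
    have hc : IsClosed ({w} : Set X) := (VarDim.closedPoint_iff_deg_eq_zero f w).2 (by omega)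
    exact ⟨hc, isSepClosed_residueField f w hc⟩
  refine devissage EtCoh.IsTorsion (fun F T h => isTorsion_of_mono (suppIncl F T) h)
    (fun F y h => isTorsion_of_mono (kernel.ι (ptUnit y F)) h) (i + 2) Set.univ (fun y _ G hG => ?_)
    (fun y _ G _ => subsingleton_H_of_supp_closedPoints _ (fun w hw => hcl y w (supp_cokernel_unit y G hw)) _ (by omega))
    (fun _ _ _ _ => trivial) F hF (Set.subset_univ _)
  by_cases hy : IsClosed ({y} : Set X)
  · refine subsingleton_H_of_supp_closedPoints _ (fun w hw => ?_) _ (by omega)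
    have hwy : w = y := by
      obtain ⟨Ω, _, _, ξ, hξ, hz⟩ := mem_of_supp hw
      by_contra hne
      exact hz (isZero_stalk_push_outside y _ ξ (by rw [hy.closure_eq, hξ]; exact hne))
    subst hwy
    exact ⟨hy, isSepClosed_residueField f w hy⟩
  let K : Type u := X.residueField y
  have hdeg : VarDim.deg f y = 1 := by
    have h0 : VarDim.deg f y ≠ 0 := fun h => hy ((VarDim.closedPoint_iff_deg_eq_zero f y).2 h)
    have := height_le_of_dim (d := 1) (by exact_mod_cast hd) y
    rw [VarDim.height_eq_deg f] at this
    have : VarDim.deg f y ≤ 1 := by exact_mod_cast this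
    omega
  have hCi : Curves.IsCi K 1 := by
    letI : Algebra k K := (VarDim.resHom f y).toAlgebra
    refine TsenLib.tsen_lang (k := k) ?_
    rw [← hdeg]
    exact (VarDim.deg_eq_tdeg f y).symm
  have hBr : ∀ (K' : Type u) [Field K'] [Algebra K K'] [FiniteDimensional K K'] (D : Type u) [DivisionRing D]
      [Algebra K' D] [Algebra.IsCentral K' D] [FiniteDimensional K' D], Module.finrank K' D = 1 :=
    fun K' _ _ _ D _ _ _ _ => TsenLib.finrank_eq_one_of_isCr_one (TsenLib.isCr_one_of_isCi
      (Groth.Agent.S0210.result K K' 1 hCi))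
  have hT' : EtCoh.IsTorsion ((EtCoh.pull (ptMor y)).obj G) := GalTorLib.isTorsion_pull _ G hG
  refine subsingleton_H_push_of_dim_one y _ (fun T hne hT n hn => ?_) i
    (Groth.Agent.S0208.result K hBr _ hT' (i + 2) (by omega)) (Groth.Agent.S0208.result K hBr _ hT' (i + 3) (by omega))
    (fun A hA => subsingleton_H_of_supp_closedPoints A (fun w hw => hcl y w (hA hw)) _ (by omega))
  refine subsingleton_H_pt (k := K) _ T hne hT n fun L _ _ _ _ e => ?_
  refine Groth.Agent.S0208.result L (fun K' _ _ _ D _ _ _ _ => ?_) _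
    (GalTorLib.isTorsion_pull _ _ (GalTorLib.isTorsion_pull _ _ hT')) n hn
  letI : Algebra K K' := ((algebraMap L K').comp (algebraMap K L)).toAlgebra
  haveI : IsScalarTower K L K' := IsScalarTower.of_algebraMap_eq fun _ => rfl
  haveI : FiniteDimensional K K' := Module.Finite.trans L K'
  exact hBr K' D

end Curve

end Groth.Agent.CurveCd
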