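import Groth.Agent.CurveCd.Classes
import Groth.Agent.S0073
import Groth.Agent.S0071
import Groth.Agent.AlgSpDec.EtStalkProps
import Mathlib.Topology.NoetherianSpace
import Mathlib.Topology.Sober

/-! devissage along the points of a noetherian scheme -/

universe u

open CategoryTheory CategoryTheory.Limits AlgebraicGeometry Opposite TopologicalSpace

namespace Groth.Agent.CurveCd

set_option autoImplicit false
set_option maxHeartbeats 1000000
set_option synthInstance.maxHeartbeats 400000
set_option backward.isDefEq.respectTransparency false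
set_option backward.isDefEq.respectTransparency.types false
set_option linter.style.haveILetI false

variable {X : Scheme.{u}}

theorem isZero_of_supp {F : EtCoh.Ab X} (h : EtPBC.supp F ⊆ (∅ : Set X)) : IsZero F :=
  (EtFound.isZero_iff_stalks F).2 fun _ _ _ ξ => isZero_stalk_of_notMem ξ fun hx => h hx

theorem subsingleton_H_of_supp {F : EtCoh.Ab X} (h : EtPBC.supp F ⊆ (∅ : Set X)) (q : ℕ) :
    Subsingleton (EtCoh.H X F q) :=
  AddCommGrpCat.subsingleton_of_isZero ((EtCoh.HF X q).map_isZero (isZero_of_supp h))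

/-- a nonempty closed set has a point without strict generization inside it -/
theorem exists_maximal {Z : Set X} (hZ : IsClosed Z) (hne : Z.Nonempty) :
    ∃ y ∈ Z, ∀ z ∈ Z, z ⤳ y → z = y := by
  obtain ⟨w, hw⟩ := hne
  haveI : QuasiSober ↥Z := hZ.isClosedEmbedding_subtypeVal.quasiSober
  let K := irreducibleComponent (⟨w, hw⟩ : ↥Z)
  have hK : IsIrreducible K := isIrreducible_irreducibleComponent
  have hg : IsGenericPoint hK.genericPoint K := hK.isGenericPoint_genericPoint isClosed_irreducibleComponent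
  refine ⟨hK.genericPoint.1, hK.genericPoint.2, fun z hz hzy => ?_⟩
  have hsp : (⟨z, hz⟩ : ↥Z) ⤳ hK.genericPoint :=
    Topology.IsInducing.subtypeVal.specializes_iff.1 hzy
  have hle : K ⊆ closure {(⟨z, hz⟩ : ↥Z)} := hg.def ▸
    closure_minimal (Set.singleton_subset_iff.2 (specializes_iff_mem_closure.1 hsp)) isClosed_closure
  have heq : closure {(⟨z, hz⟩ : ↥Z)} = K :=
    (irreducibleComponent_mem_irreducibleComponents _).eq_of_ge isIrreducible_singleton.closure hle
  exact congrArg Subtype.val ((show IsGenericPoint (⟨z, hz⟩ : ↥Z) K from heq).eq hg)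

theorem stableUnderSpecialization_diff {Z : Set X} (hZ : IsClosed Z) {y : X} (hy : ∀ z ∈ Z, z ⤳ y → z = y) :
    StableUnderSpecialization (Z \ {y}) := fun z w hzw hz =>
  ⟨hZ.stableUnderSpecialization hzw hz.1, fun hw => hz.2 (hy z hz.1 (Set.mem_singleton_iff.1 hw ▸ hzw))⟩

theorem stableUnderSpecialization_closure_diff (y : X) : StableUnderSpecialization (closure {y} \ {y}) :=
  fun z w hzw hz => ⟨isClosed_closure.stableUnderSpecialization hzw hz.1, fun hw =>
    hz.2 ((Set.mem_singleton_iff.1 hw ▸ hzw : z ⤳ y).antisymm (specializes_iff_mem_closure.2 hz.1)).eq⟩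

/-- devissage -/
theorem devissage [IsNoetherian X] (C : EtCoh.Ab X → Prop) (hsub : ∀ F T, C F → C (suppSub F T))
    (hker : ∀ F y, C F → C (kernel (ptUnit y F))) (i : ℕ) (T₀ : Set X)
    (hpush : ∀ y ∈ T₀, ∀ F, C F →
      Subsingleton (EtCoh.H X ((EtCoh.push (ptMor y)).obj ((EtCoh.pull (ptMor y)).obj F)) (i + 1)))
    (hcok : ∀ y ∈ T₀, ∀ F, C F → Subsingleton (EtCoh.H X (cokernel (ptUnit y F)) i))
    (hT₀ : StableUnderSpecialization T₀) (F : EtCoh.Ab X) (hF : C F) (hs : EtPBC.supp F ⊆ T₀) :
    Subsingleton (EtCoh.H X F (i + 1)) := by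
  suffices h : ∀ Z : Closeds X, (Z : Set X) ⊆ T₀ → ∀ G, C G → EtPBC.supp G ⊆ (Z : Set X) →
      Subsingleton (EtCoh.H X G (i + 1)) from
    subsingleton_H_of_closed F T₀ hT₀ hs (i + 1) fun Z hZ hZT =>
      h ⟨Z, hZ⟩ hZT _ (hsub F Z hF) (supp_suppSub F Z)
  intro Z
  induction Z using WellFoundedLT.induction with
  | _ Z ih =>
    intro hZT G hG hGs
    by_cases hne : (Z : Set X).Nonempty
    · obtain ⟨y, hy, hmax⟩ := exists_maximal Z.isClosed hne
      refine subsingleton_H_of_step y G i (hpush y (hZT hy) G hG) ?_ (hcok y (hZT hy) G hG)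
      refine subsingleton_H_of_closed _ _ (stableUnderSpecialization_diff Z.isClosed hmax)
        ((supp_kernel_unit y G).trans (Set.sdiff_subset_sdiff_left hGs)) (i + 1) fun W hW hWE => ?_
      refine ih ⟨W, hW⟩ ?_ ((hWE.trans Set.sdiff_subset).trans hZT) _ (hsub _ W (hker G y hG)) (supp_suppSub _ W)
      refine lt_of_le_of_ne (hWE.trans Set.sdiff_subset) fun e => (hWE (?_ : y ∈ W)).2 rfl
      rw [← e] at hy
      exact hy
    · exact subsingleton_H_of_supp (hGs.trans (Set.not_nonempty_iff_eq_empty.1 hne).subset) _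

/-- sheaves supported at closed points with separably closed residue fields are acyclic -/
theorem subsingleton_H_of_supp_closedPoints [IsNoetherian X] (F : EtCoh.Ab X)
    (hF : ∀ x ∈ EtPBC.supp F, IsClosed ({x} : Set X) ∧ IsSepClosed (X.residueField x)) (q : ℕ) (hq : 0 < q) :
    Subsingleton (EtCoh.H X F q) := by
  obtain ⟨i, rfl⟩ : ∃ i, q = i + 1 := ⟨q - 1, by omega⟩
  refine devissage (fun _ => True) (fun _ _ _ => trivial) (fun _ _ _ => trivial) i
    {x | IsClosed ({x} : Set X) ∧ IsSepClosed (X.residueField x)} (fun y hy G _ => ?_) (fun y hy G _ => ?_)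
    (fun z w hzw hz => ?_) F trivial hF
  · haveI : IsSepClosed (X.residueField y) := hy.2
    haveI : IsClosedImmersion (ptMor y) := isClosed_singleton_iff_isClosedImmersion.1 hy.1
    haveI := EtContLib.pfl (ptMor y)
    let K : Type u := X.residueField y
    haveI : IsSepClosed K := hy.2
    haveI : IsSepClosed (IsLocalRing.ResidueField K) := AlgSpDec.EtStalkProps.isSepClosed_of_ringEquiv' (RingEquiv.ofBijective
      (IsLocalRing.residue K) ⟨(IsLocalRing.residue K).injective, IsLocalRing.residue_surjective⟩)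
    haveI : HenselianLocalRing K := inferInstance
    haveI : Subsingleton (EtCoh.H (Spec (X.residueField y)) ((EtCoh.pull (ptMor y)).obj G) (i + 1)) :=
      Groth.Agent.S0073.result K _ (i + 1) (by omega)
    exact (Groth.Agent.S14451.result (ptMor y) _
      (fun q hq => Groth.Agent.S0071.result (ptMor y) _ q hq) (i + 1)).1.subsingleton
  · refine subsingleton_H_of_supp ((supp_cokernel_unit y G).trans ?_) i
    rw [hy.1.closure_eq, sdiff_self]
    exact subset_rfl
  · obtain rfl : w = z := by
      have := hzw.mem_closed hz.1 rfl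
      exact this
    exact hz

end Groth.Agent.CurveCd
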