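import Groth.Agent.FieldCd.Acyclic
import Groth.Agent.EtFound.PushOutside
import Mathlib.RingTheory.Etale.StandardEtale
import Mathlib.FieldTheory.PrimitiveElement

/-! etale neighbourhoods of a point lift -/

universe u

open CategoryTheory CategoryTheory.Limits AlgebraicGeometry Opposite Polynomial

namespace Groth.Agent.CurveCd

set_option autoImplicit false
set_option maxHeartbeats 1000000
set_option synthInstance.maxHeartbeats 400000
set_option backward.isDefEq.respectTransparency false
set_option backward.isDefEq.respectTransparency.types false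
set_option linter.style.haveILetI false

variable {X : Scheme.{u}}

/-- finitely many elements of a residue field are values of functions on an affine neighbourhood -/
theorem exists_affine_values (y : X) (s : Finset (X.residueField y)) :
    ∃ (A : X.Opens) (_ : IsAffineOpen A) (hy : y ∈ A),
      ∀ c ∈ s, ∃ r : Γ(X, A), (X.presheaf.germ A y hy ≫ X.residue y) r = c := by
  classical
  induction s using Finset.induction_on with
  | empty =>
    obtain ⟨A, hA, hy, -⟩ := exists_isAffineOpen_mem_and_subset (U := (⊤ : X.Opens)) (x := y) trivial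
    exact ⟨A, hA, hy, fun c hc => absurd hc (Finset.notMem_empty c)⟩
  | @insert a s _ ih =>
    obtain ⟨A, hA, hy, hs⟩ := ih
    obtain ⟨a', rfl⟩ := X.residue_surjective y a
    obtain ⟨U, hU, t, rfl⟩ := X.presheaf.exists_germ_eq a'
    obtain ⟨B, hB, hyB, hBsub⟩ := exists_isAffineOpen_mem_and_subset (U := A ⊓ U) (x := y) ⟨hy, hU⟩
    refine ⟨B, hB, hyB, fun c hc => ?_⟩
    rcases Finset.mem_insert.1 hc with rfl | hc
    · refine ⟨X.presheaf.map (homOfLE (fun z hz => (hBsub hz).2 : B ≤ U)).op t, ?_⟩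
      exact congrArg (X.residue y) (TopCat.Presheaf.germ_res_apply X.presheaf _ y hyB t)
    · obtain ⟨r, rfl⟩ := hs c hc
      refine ⟨X.presheaf.map (homOfLE (fun z hz => (hBsub hz).1 : B ≤ A)).op r, ?_⟩
      exact congrArg (X.residue y) (TopCat.Presheaf.germ_res_apply X.presheaf _ y hyB r)

theorem fromSpecResidueField_eq {A : X.Opens} (hA : IsAffineOpen A) (y : X) (hy : y ∈ A) :
    Spec.map (X.presheaf.germ A y hy ≫ X.residue y) ≫ hA.fromSpec = X.fromSpecResidueField y := by
  rw [Scheme.fromSpecResidueField, ← hA.fromSpecStalk_eq_fromSpecStalk hy, IsAffineOpen.fromSpecStalk,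
    Spec.map_comp, Category.assoc]

/-- etale neighbourhoods over a point come from etale neighbourhoods downstairs -/
theorem liftable_fromSpecResidueField (y : X) : EtFound.Liftable (X.fromSpecResidueField y) := by
  intro U x
  classical
  let K : Type u := X.residueField y
  let O : U.left.Opens := ⟨{x}, FieldCd.isOpen_singleton (k := K) U x⟩
  let U₁ := EtTorLib.openObj U O
  obtain ⟨L, _, _, _, _, e, he⟩ := FieldCd.exists_pt_iso (k := K) U₁ ⟨(⟨x, rfl⟩ : (O : Scheme.{u}))⟩
    ⟨fun a b => Subtype.ext ((Set.mem_singleton_iff.1 a.2).trans (Set.mem_singleton_iff.1 b.2).symm)⟩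
  let pb := Field.powerBasisOfFiniteOfSeparable K L
  have hint : IsIntegral K pb.gen := Algebra.IsIntegral.isIntegral _
  obtain ⟨A, hA, hy, hc⟩ := exists_affine_values y (minpoly K pb.gen).coeffs
  let φ : Γ(X, A) →+* K := (X.presheaf.germ A y hy ≫ X.residue y).hom
  obtain ⟨f, hf, -, hfm⟩ := Polynomial.lifts_and_natDegree_eq_and_monic
    (f := φ) (p := minpoly K pb.gen) ((Polynomial.lifts_iff_coeff_lifts _).2 fun n => by
      by_cases h0 : (minpoly K pb.gen).coeff n = 0
      · exact ⟨0, by rw [map_zero, h0]⟩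
      · exact hc _ (Polynomial.coeff_mem_coeffs h0)) (minpoly.monic hint)
  let P : StandardEtalePair Γ(X, A) := ⟨f, hfm, derivative f, 1, 0, 1, by rw [mul_one, mul_zero, add_zero, pow_one]⟩
  let b : Spec (CommRingCat.of P.Ring) ⟶ Spec Γ(X, A) := Spec.map (CommRingCat.ofHom (algebraMap Γ(X, A) P.Ring))
  haveI : AlgebraicGeometry.Etale b :=
    (HasRingHomProperty.Spec_iff (P := @AlgebraicGeometry.Etale)).2 (RingHom.etale_algebraMap.2 inferInstance)
  haveI : IsOpenImmersion hA.fromSpec := inferInstance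
  let V : X.Etale := Scheme.Etale.mk (b ≫ hA.fromSpec)
  let T := ((EtCoh.bc (X.fromSpecResidueField y)).obj V).left
  let p : T ⟶ Spec (CommRingCat.of P.Ring) := pullback.fst (b ≫ hA.fromSpec) (X.fromSpecResidueField y)
  let q : T ⟶ Spec (CommRingCat.of K) := pullback.snd (b ≫ hA.fromSpec) (X.fromSpecResidueField y)
  have hpq : p ≫ b = q ≫ Spec.map (X.presheaf.germ A y hy ≫ X.residue y) := by
    rw [← cancel_mono hA.fromSpec, Category.assoc, Category.assoc, fromSpecResidueField_eq hA y hy]
    exact pullback.condition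
  let ψ : P.Ring →+* Γ(T, ⊤) := ((Scheme.ΓSpecIso (CommRingCat.of P.Ring)).inv ≫ p.appTop).hom
  let qK : K →+* Γ(T, ⊤) := ((Scheme.ΓSpecIso (CommRingCat.of K)).inv ≫ q.appTop).hom
  have hψ : ψ.comp (algebraMap Γ(X, A) P.Ring) = qK.comp φ := by
    have h := congrArg (fun r => (Scheme.ΓSpecIso Γ(X, A)).inv ≫ Scheme.Hom.appTop r) hpq
    simp only [b, Scheme.Hom.comp_appTop, ← Scheme.ΓSpecIso_inv_naturality_assoc] at h
    exact congrArg CommRingCat.Hom.hom h
  letI : Algebra K Γ(T, ⊤) := qK.toAlgebra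
  have hroot : aeval (ψ P.X) (minpoly K pb.gen) = 0 := by
    rw [← hf, aeval_def, eval₂_map, RingHom.algebraMap_toAlgebra, ← hψ]
    refine (Polynomial.hom_eval₂ f (algebraMap Γ(X, A) P.Ring) ψ P.X).symm.trans ?_
    rw [← aeval_def, show aeval P.X f = 0 from P.hasMap_X.1, map_zero]
  let θ : L →ₐ[K] Γ(T, ⊤) := pb.lift (ψ P.X) hroot
  let hL : T ⟶ Spec (CommRingCat.of L) := T.toSpecΓ ≫ Spec.map (CommRingCat.ofHom θ.toRingHom)
  have hover : hL ≫ Spec.map (CommRingCat.ofHom (algebraMap K L)) = q := by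
    have h1 : CommRingCat.ofHom (algebraMap K L) ≫ CommRingCat.ofHom θ.toRingHom =
        (Scheme.ΓSpecIso (CommRingCat.of K)).inv ≫ q.appTop := by
      ext r
      exact θ.commutes r
    rw [Category.assoc, ← Spec.map_comp, h1, Spec.map_comp, ← Scheme.toSpecΓ_naturality_assoc,
      toSpecΓ_SpecMap_ΓSpecIso_inv, Category.comp_id]
  let g : (EtCoh.bc (X.fromSpecResidueField y)).obj V ⟶ U :=
    MorphismProperty.Over.homMk (hL ≫ e.hom) (by
      show (hL ≫ e.hom) ≫ U₁.hom = q
      rw [Category.assoc]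
      exact (congrArg (hL ≫ ·) he).trans hover) ≫ EtTorLib.openHom U O
  -- a point over `y`
  letI : Algebra Γ(X, A) L := ((algebraMap K L).comp φ).toAlgebra
  have hmap : P.HasMap pb.gen := by
    have hev : ∀ r : Γ(X, A)[X], aeval pb.gen r = aeval pb.gen (r.map φ) := fun r => by
      rw [aeval_def, aeval_def, eval₂_map]
      rfl
    refine ⟨?_, ?_⟩
    · rw [hev, show P.f.map φ = minpoly K pb.gen from hf, minpoly.aeval]
    · rw [hev, show P.g.map φ = derivative (minpoly K pb.gen) by rw [← hf, derivative_map]]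
      exact isUnit_iff_ne_zero.2 (Polynomial.Separable.aeval_derivative_ne_zero (Algebra.IsSeparable.isSeparable K pb.gen) (minpoly.aeval K pb.gen))
  let z : Spec (CommRingCat.of L) ⟶ T := pullback.lift
    (Spec.map (CommRingCat.ofHom (P.lift pb.gen hmap).toRingHom)) (Spec.map (CommRingCat.ofHom (algebraMap K L))) (by
      show Spec.map _ ≫ (b ≫ hA.fromSpec) = _
      rw [← fromSpecResidueField_eq hA y hy, ← Category.assoc, ← Category.assoc, ← Spec.map_comp, ← Spec.map_comp]
      refine congrArg (· ≫ hA.fromSpec) (congrArg Spec.map ?_)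
      ext r
      exact (P.lift pb.gen hmap).commutes r)
  refine ⟨V, g, z.base (IsLocalRing.closedPoint L), ?_⟩
  exact Set.mem_singleton_iff.1 ((hL ≫ e.hom).base (z.base (IsLocalRing.closedPoint L))).2

end Groth.Agent.CurveCd
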