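import Groth.Agent.CurveCd.Step
import Groth.Agent.GalTorLib.CohDim

/-! classes of sheaves stable under the devissage -/

universe u

open CategoryTheory CategoryTheory.Limits AlgebraicGeometry Opposite

namespace Groth.Agent.CurveCd

set_option autoImplicit false
set_option maxHeartbeats 1000000
set_option synthInstance.maxHeartbeats 400000
set_option backward.isDefEq.respectTransparency false
set_option backward.isDefEq.respectTransparency.types false
set_option linter.style.haveILetI false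

variable {X : Scheme.{u}}

theorem app_nsmul_id (F : EtCoh.Ab X) (m : ℕ) (U : X.Etale) (t : F.obj.obj (op U)) :
    (m • 𝟙 F : F ⟶ F).hom.app (op U) t = m • t := by
  induction m with
  | zero => simp
  | succ k ih => simp only [succ_nsmul]; exact congrArg (· + t) ih

/-- subsheaves of torsion sheaves are torsion -/
theorem isTorsion_of_mono {A F : EtCoh.Ab X} (a : A ⟶ F) [Mono a] (hF : EtCoh.IsTorsion F) : EtCoh.IsTorsion A := by
  intro U s x
  obtain ⟨V, g, hv, ho⟩ := hF U (a.hom.app (op U) s) x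
  haveI : Mono a.hom := (sheafToPresheaf _ AddCommGrpCat.{u + 1}).map_mono a
  have hi : Function.Injective (a.hom.app (op V)) := (AddCommGrpCat.mono_iff_injective _).1 inferInstance
  refine ⟨V, g, hv, (hi.isOfFinAddOrder_iff (f := (a.hom.app (op V)).hom)).1 ?_⟩
  have h := NatTrans.naturality_apply a.hom g.op s
  rw [← h] at ho
  exact ho

/-- sheaves of rational vector spaces -/
def IsQSheaf (F : EtCoh.Ab X) : Prop := ∀ n : ℕ, 0 < n → IsIso (n • 𝟙 F)

theorem isQSheaf_of_bijective (F : EtCoh.Ab X)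
    (hF : ∀ (U : X.Etale) (m : ℕ), 0 < m → Function.Bijective (fun s : EtCoh.sect F U => m • s)) : IsQSheaf F := by
  intro n hn
  haveI : ∀ U, IsIso ((n • 𝟙 F : F ⟶ F).hom.app U) := fun U => by
    refine (ConcreteCategory.isIso_iff_bijective _).2 ?_
    have h := hF U.unop n hn
    exact (funext fun t => app_nsmul_id F n U.unop t : _ = fun s : EtCoh.sect F U.unop => n • s) ▸ h
  haveI : IsIso ((sheafToPresheaf _ AddCommGrpCat.{u + 1}).map (n • 𝟙 F : F ⟶ F)) :=
    NatIso.isIso_of_isIso_app (n • 𝟙 F : F ⟶ F).hom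
  exact isIso_of_reflects_iso _ (sheafToPresheaf _ AddCommGrpCat.{u + 1})

theorem IsQSheaf.map {Y : Scheme.{u}} (P : EtCoh.Ab X ⥤ EtCoh.Ab Y) [P.Additive] {F : EtCoh.Ab X}
    (hF : IsQSheaf F) : IsQSheaf (P.obj F) := fun n hn => by
  haveI := hF n hn
  have h : P.map (n • 𝟙 F) = n • 𝟙 (P.obj F) := by rw [Functor.map_nsmul, P.map_id]
  rw [← h]
  infer_instance

theorem IsQSheaf.pull {Y : Scheme.{u}} (f : Y ⟶ X) {F : EtCoh.Ab X} (hF : IsQSheaf F) :
    IsQSheaf ((EtCoh.pull f).obj F) := by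
  haveI := (EtCoh.pullPushAdj f).left_adjoint_additive
  exact hF.map _

theorem IsQSheaf.push {Y : Scheme.{u}} (f : X ⟶ Y) {F : EtCoh.Ab X} (hF : IsQSheaf F) :
    IsQSheaf ((EtCoh.push f).obj F) := by
  haveI := (EtCoh.pullPushAdj f).right_adjoint_additive
  exact hF.map _

theorem nsmul_id_comm {A B : EtCoh.Ab X} (a : A ⟶ B) (n : ℕ) : a ≫ (n • 𝟙 B) = (n • 𝟙 A) ≫ a := by
  rw [Preadditive.comp_nsmul, Preadditive.nsmul_comp, Category.comp_id, Category.id_comp]

theorem inv_nsmul_comm {A B : EtCoh.Ab X} (a : A ⟶ B) (n : ℕ) [IsIso (n • 𝟙 A)] [IsIso (n • 𝟙 B)] :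
    inv (n • 𝟙 A) ≫ a = a ≫ inv (n • 𝟙 B) := by
  rw [IsIso.inv_comp_eq, ← Category.assoc, IsIso.eq_comp_inv]
  exact nsmul_id_comm a n

theorem IsQSheaf.kernel {A B : EtCoh.Ab X} (a : A ⟶ B) (hA : IsQSheaf A) (hB : IsQSheaf B) :
    IsQSheaf (kernel a) := fun n hn => by
  haveI := hA n hn
  haveI := hB n hn
  refine ⟨kernel.lift a (kernel.ι a ≫ inv (n • 𝟙 A)) ?_, ?_, ?_⟩
  · rw [Category.assoc, inv_nsmul_comm, kernel.condition_assoc, zero_comp]
  · rw [← cancel_mono (kernel.ι a), Category.assoc, kernel.lift_ι, ← Category.assoc, ← nsmul_id_comm, Category.assoc,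
      IsIso.hom_inv_id, Category.comp_id, Category.id_comp]
  · rw [← cancel_mono (kernel.ι a), Category.assoc, ← nsmul_id_comm, kernel.lift_ι_assoc, Category.assoc,
      IsIso.inv_hom_id, Category.comp_id, Category.id_comp]

theorem IsQSheaf.cokernel {A B : EtCoh.Ab X} (a : A ⟶ B) (hA : IsQSheaf A) (hB : IsQSheaf B) :
    IsQSheaf (cokernel a) := fun n hn => by
  haveI := hA n hn
  haveI := hB n hn
  refine ⟨cokernel.desc a (inv (n • 𝟙 B) ≫ cokernel.π a) ?_, ?_, ?_⟩
  · rw [← Category.assoc, ← inv_nsmul_comm, Category.assoc, cokernel.condition, comp_zero]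
  · rw [← cancel_epi (cokernel.π a), ← Category.assoc, nsmul_id_comm, Category.assoc, cokernel.π_desc,
      IsIso.hom_inv_id_assoc, Category.comp_id]
  · rw [← cancel_epi (cokernel.π a), cokernel.π_desc_assoc, Category.assoc, nsmul_id_comm,
      IsIso.inv_hom_id_assoc, Category.comp_id]

variable (T : Set X)

theorem map_secs {A B : EtCoh.Ab X} (a : A ⟶ B) (U : X.Etale) {s : A.obj.obj (op U)} (hs : s ∈ secs A T U) :
    a.hom.app (op U) s ∈ secs B T U := fun Ω _ _ ξ z h => by
  refine ((Scheme.pointSmallEtale ξ).toPresheafFiber_naturality_apply a.hom U z s).symm.trans ?_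
  rw [hs Ω _ _ ξ z h]
  exact map_zero _

/-- functoriality of the supported subsheaf -/
noncomputable def suppFun {A B : EtCoh.Ab X} (a : A ⟶ B) : suppSub A T ⟶ suppSub B T :=
  ObjectProperty.homMk
    { app := fun U => AddCommGrpCat.ofHom
        { toFun := fun s : secs A T U.unop => (⟨a.hom.app U s.1, map_secs T a U.unop s.2⟩ : secs B T U.unop)
          map_zero' := Subtype.ext (map_zero (a.hom.app U).hom)
          map_add' := fun s t => Subtype.ext (map_add (a.hom.app U).hom s.1 t.1) }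
      naturality := fun U V g => by
        ext (s : secs A T U.unop)
        exact Subtype.ext (NatTrans.naturality_apply a.hom g s.1) }

theorem suppFun_incl {A B : EtCoh.Ab X} (a : A ⟶ B) : suppFun T a ≫ suppIncl B T = suppIncl A T ≫ a := rfl

theorem IsQSheaf.suppSub {F : EtCoh.Ab X} (hF : IsQSheaf F) : IsQSheaf (suppSub F T) := fun n hn => by
  haveI := hF n hn
  refine ⟨suppFun T (inv (n • 𝟙 F)), ?_, ?_⟩
  · rw [← cancel_mono (suppIncl F T), Category.assoc, suppFun_incl, ← Category.assoc, ← nsmul_id_comm,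
      Category.assoc, IsIso.hom_inv_id, Category.comp_id, Category.id_comp]
  · rw [← cancel_mono (suppIncl F T), Category.assoc, ← nsmul_id_comm, ← Category.assoc, suppFun_incl,
      Category.assoc, IsIso.inv_hom_id, Category.comp_id, Category.id_comp]

end Groth.Agent.CurveCd
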