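import Groth.Agent.CurveCd.Main
import Groth.Agent.S0099
import Mathlib.CategoryTheory.Functor.OfSequence
import Mathlib.Data.Nat.Factorial.BigOperators

/-! cohomology above the dimension is torsion -/

universe u

open CategoryTheory CategoryTheory.Limits AlgebraicGeometry Opposite

namespace Groth.Agent.CurveCd

set_option autoImplicit false
set_option maxHeartbeats 1000000
set_option synthInstance.maxHeartbeats 400000
set_option backward.isDefEq.respectTransparency false
set_option backward.isDefEq.respectTransparency.types false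
set_option linter.style.haveILetI false

variable {X : Scheme.{u}}

/-- the sequence of multiplications by all positive integers -/
noncomputable def ratSeq (F : EtCoh.Ab X) : ℕ ⥤ EtCoh.Ab X :=
  Functor.ofSequence (X := fun _ => F) fun n => (n + 1) • 𝟙 F

theorem ratSeq_map (F : EtCoh.Ab X) (n k : ℕ) :
    (ratSeq F).map (homOfLE (Nat.le_add_right n k)) = (n + 1).ascFactorial k • 𝟙 F := by
  induction k with
  | zero => simp only [Nat.ascFactorial_zero, one_smul]; exact (ratSeq F).map_id n
  | succ k ih =>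
    have h : (ratSeq F).map (homOfLE (Nat.le_add_right n (k + 1))) =
        (ratSeq F).map (homOfLE (Nat.le_add_right n k)) ≫ (ratSeq F).map (homOfLE (Nat.le_add_right (n + k) 1)) :=
      (congrArg (ratSeq F).map (Subsingleton.elim _ _)).trans ((ratSeq F).map_comp _ _)
    refine h.trans ?_
    rw [ih, show (ratSeq F).map (homOfLE (Nat.le_add_right (n + k) 1)) = (n + k + 1) • 𝟙 F from
      Functor.ofSequence_map_homOfLE_succ _ (n + k)]
    show ((n + 1).ascFactorial k • 𝟙 F : F ⟶ F) ≫ ((n + k + 1) • 𝟙 F) = _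
    rw [Preadditive.nsmul_comp, Category.id_comp, smul_smul, Nat.ascFactorial_succ, mul_comm, add_right_comm]

theorem isQSheaf_colimit (F : EtCoh.Ab X) : IsQSheaf (colimit (ratSeq F)) := by
  intro m hm
  have hd : ∀ n : ℕ, m ∣ (n + 1).ascFactorial m := fun n =>
    (Nat.dvd_factorial hm le_rfl).trans (Nat.factorial_dvd_ascFactorial _ _)
  let a : ℕ → ℕ := fun n => (n + 1).ascFactorial m / m
  have ha : ∀ n, m * a n = (n + 1).ascFactorial m := fun n => Nat.mul_div_cancel' (hd n)
  let g : ∀ n, F ⟶ colimit (ratSeq F) := fun n => a n • colimit.ι (ratSeq F) (n + m)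
  have hg : ∀ n, ((n + 1) • 𝟙 F) ≫ g (n + 1) = g n := by
    intro n
    show ((n + 1) • 𝟙 F) ≫ (a (n + 1) • colimit.ι (ratSeq F) (n + 1 + m) : F ⟶ _) = _
    have h0 : colimit.ι (ratSeq F) (n + m) =
        ((n + m + 1) • 𝟙 F : F ⟶ F) ≫ colimit.ι (ratSeq F) (n + m + 1) :=
      (colimit.w (ratSeq F) (homOfLE (Nat.le_add_right (n + m) 1))).symm.trans
        (congrArg (· ≫ colimit.ι (ratSeq F) (n + m + 1)) (Functor.ofSequence_map_homOfLE_succ _ (n + m)))
    have he : (n + 1) * a (n + 1) = a n * (n + m + 1) := by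
      refine Nat.eq_of_mul_eq_mul_left hm ?_
      rw [Nat.mul_left_comm, ha, ← Nat.mul_assoc, ha, Nat.succ_ascFactorial, Nat.mul_comm, add_right_comm]
    show _ = a n • colimit.ι (ratSeq F) (n + m)
    rw [h0, show n + 1 + m = n + m + 1 from by omega]
    erw [Preadditive.nsmul_comp, Category.id_comp, Preadditive.nsmul_comp, Category.id_comp, smul_smul, smul_smul, he]
  let α : ratSeq F ⟶ (Functor.const ℕ).obj (colimit (ratSeq F)) :=
    NatTrans.ofSequence g fun n => by
      refine Eq.trans ?_ (Category.comp_id (g n)).symm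
      exact (congrArg (· ≫ g (n + 1)) (Functor.ofSequence_map_homOfLE_succ _ n)).trans (hg n)
  let s : colimit (ratSeq F) ⟶ colimit (ratSeq F) := colimit.desc (ratSeq F) ⟨_, α⟩
  have hs : s ≫ (m • 𝟙 (colimit (ratSeq F))) = 𝟙 _ := by
    refine colimit.hom_ext fun n => ?_
    rw [colimit.ι_desc_assoc]
    show g n ≫ (m • 𝟙 (colimit (ratSeq F))) = colimit.ι (ratSeq F) n ≫ 𝟙 _
    rw [Category.comp_id, Preadditive.comp_nsmul, Category.comp_id,
      ← colimit.w (ratSeq F) (homOfLE (Nat.le_add_right n m)), ratSeq_map]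
    erw [Preadditive.nsmul_comp, Category.id_comp, smul_smul, ha]
  exact ⟨s, (nsmul_id_comm s m).symm.trans hs, hs⟩

/-- cohomology above the dimension is torsion -/
theorem isAddTorsion_H [IsNoetherian X] {d : ℕ} (hd : topologicalKrullDim ↥X ≤ d) (F : EtCoh.Ab X) (q : ℕ)
    (hq : d < q) : IsAddTorsion (EtCoh.H X F q) := by
  intro x
  haveI := Groth.Agent.S0099.result X q (AsSmall.{u} ℕ)
  haveI : PreservesColimitsOfShape ℕ (EtCoh.HF X q) :=
    preservesColimitsOfShape_of_equiv (AsSmall.equiv.{0, 0, u} (C := ℕ)).symm _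
  haveI := subsingleton_H_of_uniquelyDivisible hd _ (isQSheaf_colimit F) q hq
  have hc := isColimitOfPreserves (EtCoh.HF X q) (colimit.isColimit (ratSeq F))
  haveI : PreservesFilteredColimitsOfSize.{0, 0} (forget AddCommGrpCat.{u + 1}) :=
    preservesFilteredColimitsOfSize_shrink _
  haveI : PreservesColimitsOfShape ℕ (forget AddCommGrpCat.{u + 1}) :=
    PreservesFilteredColimitsOfSize.preserves_filtered_colimits _
  obtain ⟨N, f, g, hN⟩ := Concrete.isColimit_exists_of_rep_eq (ratSeq F ⋙ EtCoh.HF X q) (i := 0) (j := 0) hc x 0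
    (@Subsingleton.elim _ ‹_› _ _)
  rw [map_zero] at hN
  obtain ⟨N', rfl⟩ : ∃ N', N = 0 + N' := ⟨N, (zero_add N).symm⟩
  have hpos' : 0 < (0 + 1).ascFactorial N' := by rw [zero_add, Nat.one_ascFactorial]; exact Nat.factorial_pos N'
  refine isOfFinAddOrder_iff_nsmul_eq_zero.2 ⟨_, hpos', ?_⟩
  have e : (ratSeq F).map f = (0 + 1).ascFactorial N' • 𝟙 F :=
    (congrArg (ratSeq F).map (Subsingleton.elim f _)).trans (ratSeq_map F 0 N')
  have e' : (EtCoh.HF X q).map ((ratSeq F).map f) = (EtCoh.HF X q).map ((0 + 1).ascFactorial N' • 𝟙 F : F ⟶ F) :=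
    congrArg (fun r : F ⟶ F => (EtCoh.HF X q).map r) e
  have h2 : (EtCoh.HF X q).map ((ratSeq F).map f) x = 0 := hN
  have h4 := congrArg (fun r => (AddCommGrpCat.Hom.hom r) x) e'
  have h5 := GalTorLib.HF_map_nsmul F q ((0 + 1).ascFactorial N') x
  exact h5.symm.trans (h4.symm.trans h2)

end Groth.Agent.CurveCd
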