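import Groth.Agent.EtTorLib.Supp
import Groth.Agent.S0099
import Groth.Agent.EtTorLib.SepAcyclic
import Mathlib.CategoryTheory.Abelian.GrothendieckAxioms.Colim

/-! sheaves supported in a specialisation stable set are colimits of sheaves supported in closed subsets -/

universe u

open CategoryTheory CategoryTheory.Limits AlgebraicGeometry Opposite TopologicalSpace

namespace Groth.Agent.CurveCd

set_option autoImplicit false
set_option maxHeartbeats 1000000
set_option synthInstance.maxHeartbeats 400000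
set_option backward.isDefEq.respectTransparency false
set_option backward.isDefEq.respectTransparency.types false
set_option linter.style.haveILetI false

variable {X : Scheme.{u}}

theorem isZero_stalk_of_notMem {F : EtCoh.Ab X} {Ω : Type u} [Field Ω] [IsSepClosed Ω]
    (ξ : Spec (CommRingCat.of Ω) ⟶ X) (h : ξ.base (default : Spec (CommRingCat.of Ω)) ∉ EtPBC.supp F) :
    IsZero ((EtCoh.stalk ξ).obj F) :=
  not_not.1 fun hz => h ⟨Ω, _, inferInstance, ξ, EtFound.range_point ξ, hz⟩

theorem germSupp_subset (F : EtCoh.Ab X) (U : X.Etale) (s : F.obj.obj (op U)) :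
    EtFound.germSupp F U s ⊆ U.hom.base ⁻¹' EtPBC.supp F := fun q hq => by
  obtain ⟨k, _, _, ξ, z, rfl⟩ := EtFound.exists_algClosed_point U q
  by_contra hne
  refine (EtFound.mem_germSupp_iff s z).1 hq (@Subsingleton.elim _
    (AddCommGrpCat.subsingleton_of_isZero (isZero_stalk_of_notMem ξ ?_)) _ _)
  rw [← EtFound.base_of_point z]
  exact hne

variable (F : EtCoh.Ab X) (T : Set X)

/-- the sections vanishing outside a set -/
noncomputable def secs (U : X.Etale) : AddSubgroup (F.obj.obj (op U)) where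
  carrier := {s | ∀ (Ω : Type u) (_ : Field Ω) (_ : IsSepClosed Ω) (ξ : Spec (CommRingCat.of Ω) ⟶ X)
    (z : (Scheme.pointSmallEtale ξ).fiber.obj U), ξ.base (default : Spec (CommRingCat.of Ω)) ∉ T →
      (Scheme.pointSmallEtale ξ).toPresheafFiber U z F.obj s = 0}
  zero_mem' := fun Ω _ _ ξ z _ => map_zero ((Scheme.pointSmallEtale ξ).toPresheafFiber U z F.obj).hom
  add_mem' := fun {a b} ha hb Ω _ _ ξ z h => by
    refine (map_add ((Scheme.pointSmallEtale ξ).toPresheafFiber U z F.obj).hom a b).trans ?_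
    exact (congrArg₂ (· + ·) (ha Ω _ _ ξ z h) (hb Ω _ _ ξ z h)).trans (add_zero _)
  neg_mem' := fun {a} ha Ω _ _ ξ z h => by
    refine (map_neg ((Scheme.pointSmallEtale ξ).toPresheafFiber U z F.obj).hom a).trans ?_
    exact (congrArg Neg.neg (ha Ω _ _ ξ z h)).trans neg_zero

theorem map_mem_secs {U V : X.Etale} (g : V ⟶ U) {s : F.obj.obj (op U)} (hs : s ∈ secs F T U) :
    F.obj.map g.op s ∈ secs F T V := fun Ω _ _ ξ z h =>
  ((Scheme.pointSmallEtale ξ).toPresheafFiber_w_apply g z F.obj s).trans (hs Ω _ _ ξ _ h)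

theorem mem_secs_of_cover {U : X.Etale} (s : F.obj.obj (op U))
    (h : ∀ x : U.left, ∃ (V : X.Etale) (g : V ⟶ U) (v : V.left), F.obj.map g.op s ∈ secs F T V ∧ g.left.base v = x) :
    s ∈ secs F T U := fun Ω _ _ ξ z hz => by
  obtain ⟨V, g, v, hs, hv⟩ := h (EtFound.ptOf z)
  obtain ⟨z', hz', -⟩ := EtFound.exists_lift_point g z v hv
  rw [← hz', ← (Scheme.pointSmallEtale ξ).toPresheafFiber_w_apply]
  exact hs Ω _ _ ξ z' hz

/-- the presheaf of sections vanishing outside a set -/
noncomputable def suppPsh : X.Etaleᵒᵖ ⥤ AddCommGrpCat.{u + 1} where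
  obj U := AddCommGrpCat.of (secs F T U.unop)
  map {U V} g := AddCommGrpCat.ofHom
    { toFun := fun s => (⟨F.obj.map g s.1, map_mem_secs F T g.unop s.2⟩ : secs F T V.unop)
      map_zero' := Subtype.ext (map_zero (F.obj.map g).hom)
      map_add' := fun a b => Subtype.ext (map_add (F.obj.map g).hom a.1 b.1) }
  map_id U := by
    ext (s : secs F T U.unop)
    exact congrArg (fun r => (AddCommGrpCat.Hom.hom r) s.1) (F.obj.map_id U)
  map_comp {U V W} f g := by
    ext (s : secs F T U.unop)
    exact congrArg (fun r => (AddCommGrpCat.Hom.hom r) s.1) (F.obj.map_comp f g)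

theorem isSheaf_suppPsh : Presheaf.IsSheaf X.smallEtaleTopology (suppPsh F T) := by
  refine (Presheaf.isSheaf_iff_isSheaf_forget _ _ (forget AddCommGrpCat.{u + 1})).2 ?_
  refine (isSheaf_iff_isSheaf_of_type _ _).2 fun U S hS x hx => ?_
  have hsh := ((isSheaf_iff_isSheaf_of_type _ _).1
    ((Presheaf.isSheaf_iff_isSheaf_forget _ _ (forget AddCommGrpCat.{u + 1})).1 F.property)) S hS
  let x' : Presieve.FamilyOfElements (F.obj ⋙ forget AddCommGrpCat.{u + 1}) S.arrows :=
    fun V f hf => Subtype.val (x f hf : secs F T V)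
  have hx' : x'.Compatible := fun V₁ V₂ Z g₁ g₂ f₁ f₂ h₁ h₂ e => congrArg Subtype.val (hx g₁ g₂ h₁ h₂ e)
  obtain ⟨t, ht, huniq⟩ := hsh x' hx'
  have hc := (EtFound.mem_topology_iff S).1 hS
  refine ⟨(⟨t, mem_secs_of_cover F T t fun p => ?_⟩ : secs F T U), fun V f hf => Subtype.ext (ht f hf),
    fun t' ht' => Subtype.ext (huniq _ fun V f hf => congrArg Subtype.val (ht' f hf))⟩
  obtain ⟨V, g, v, hg, hv⟩ := hc p
  refine ⟨V, g, v, ?_, hv⟩
  rw [show F.obj.map g.op t = x' g hg from ht g hg]
  exact (x g hg : secs F T V).2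

/-- the subsheaf of sections vanishing outside a set -/
noncomputable def suppSub : EtCoh.Ab X := ⟨suppPsh F T, isSheaf_suppPsh F T⟩

/-- its inclusion -/
noncomputable def suppIncl : suppSub F T ⟶ F :=
  ObjectProperty.homMk
    { app := fun U => AddCommGrpCat.ofHom (secs F T U.unop).subtype
      naturality := fun U V g => rfl }

instance mono_suppIncl : Mono (suppIncl F T) := by
  haveI : ∀ U, Mono ((suppIncl F T).hom.app U) := fun U =>
    (AddCommGrpCat.mono_iff_injective _).2 Subtype.val_injective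
  haveI : Mono (suppIncl F T).hom := NatTrans.mono_of_mono_app _
  exact Sheaf.Hom.mono_of_presheaf_mono _ _ _

theorem supp_suppSub : EtPBC.supp (suppSub F T) ⊆ T := by
  rintro x ⟨Ω, _, _, ξ, hξ, hz⟩
  by_contra hx
  refine hz (@AddCommGrpCat.isZero_of_subsingleton _ (subsingleton_of_forall_eq 0 fun a => ?_))
  have hinj := (EtFound.mono_iff_stalks (suppIncl F T)).1 inferInstance Ω ξ
  obtain ⟨U, z, s, rfl⟩ := (Scheme.pointSmallEtale ξ).toPresheafFiber_jointly_surjective a
  refine hinj (Eq.trans ?_ (map_zero ((EtCoh.stalk ξ).map (suppIncl F T)).hom).symm)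
  refine ((Scheme.pointSmallEtale ξ).toPresheafFiber_naturality_apply (suppIncl F T).hom U z s).trans ?_
  refine (s : secs F T U).2 Ω _ _ ξ z ?_
  rw [EtFound.range_point, Set.singleton_eq_singleton_iff] at hξ
  rwa [hξ]

/-- monotonicity -/
noncomputable def suppMap {T₁ T₂ : Set X} (h : T₁ ⊆ T₂) : suppSub F T₁ ⟶ suppSub F T₂ :=
  ObjectProperty.homMk
    { app := fun U => AddCommGrpCat.ofHom (AddSubgroup.inclusion
        (fun s hs Ω i1 i2 ξ z hz => hs Ω i1 i2 ξ z fun h' => hz (h h')))
      naturality := fun U V g => rfl }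

theorem suppMap_incl {T₁ T₂ : Set X} (h : T₁ ⊆ T₂) : suppMap F h ≫ suppIncl F T₂ = suppIncl F T₁ := rfl

/-- the image of a closed subset of a noetherian etale scheme lies in a closed subset of a stable set -/
theorem exists_closed_of_affine [IsLocallyNoetherian X] (U : X.Etale) [IsAffine U.left] (C : Set U.left)
    (hC : IsClosed C) (E : Set X) (hE : StableUnderSpecialization E) (hCE : C ⊆ U.hom.base ⁻¹' E) :
    ∃ Z : Set X, IsClosed Z ∧ Z ⊆ E ∧ C ⊆ U.hom.base ⁻¹' Z := by
  haveI : AlgebraicGeometry.Etale U.hom := U.prop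
  haveI : IsLocallyNoetherian U.left :=
    @LocallyOfFiniteType.isLocallyNoetherian _ X (U.hom : U.left ⟶ X) inferInstance inferInstance
  haveI : IsNoetherian U.left := { }
  haveI : NoetherianSpace ↥C := inferInstance
  haveI : Finite ↥(irreducibleComponents ↥C) := NoetherianSpace.finite_irreducibleComponents.to_subtype
  haveI : QuasiSober ↥C := hC.isClosedEmbedding_subtypeVal.quasiSober
  let g : ↥(irreducibleComponents ↥C) → X := fun K => U.hom.base (IsIrreducible.genericPoint K.2.1).1
  refine ⟨⋃ K, closure {g K}, isClosed_iUnion_of_finite fun K => isClosed_closure, ?_, ?_⟩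
  · refine Set.iUnion_subset fun K y hy => hE (specializes_iff_mem_closure.2 hy) (hCE (Subtype.coe_prop _))
  · intro c hc
    let K : ↥(irreducibleComponents ↥C) := ⟨_, irreducibleComponent_mem_irreducibleComponents (⟨c, hc⟩ : ↥C)⟩
    refine Set.mem_iUnion.2 ⟨K, specializes_iff_mem_closure.1 ?_⟩
    have h := (K.2.1.isGenericPoint_genericPoint (isClosed_of_mem_irreducibleComponents K.1 K.2)).specializes
      (mem_irreducibleComponent : (⟨c, hc⟩ : ↥C) ∈ irreducibleComponent _)
    exact (h.map continuous_subtype_val).map U.hom.continuous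

/-- cohomology of sheaves supported in a stable set -/
theorem subsingleton_H_of_closed [IsNoetherian X] (E : Set X) (hE : StableUnderSpecialization E)
    (hF : EtPBC.supp F ⊆ E) (q : ℕ)
    (h : ∀ (Z : Set X), IsClosed Z → Z ⊆ E → Subsingleton (EtCoh.H X (suppSub F Z) q)) :
    Subsingleton (EtCoh.H X F q) := by
  let I := {Z : Closeds X // (Z : Set X) ⊆ E}
  haveI : Nonempty I := ⟨⟨⊥, by simp⟩⟩
  haveI : IsDirectedOrder I := ⟨fun a b =>
    ⟨⟨a.1 ⊔ b.1, by rw [Closeds.coe_sup]; exact Set.union_subset a.2 b.2⟩, (le_sup_left : a.1 ≤ a.1 ⊔ b.1), (le_sup_right : b.1 ≤ a.1 ⊔ b.1)⟩⟩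
  let D : I ⥤ EtCoh.Ab X :=
    { obj := fun Z => suppSub F Z.1
      map := fun f => suppMap F (leOfHom f)
      map_id := fun Z => rfl
      map_comp := fun f g => rfl }
  let α : D ⟶ (Functor.const I).obj F :=
    { app := fun Z => suppIncl F Z.1, naturality := fun _ _ f => (Category.comp_id _).symm }
  let d : colimit D ⟶ F := colimit.desc D ⟨F, α⟩
  haveI : ∀ Z, Mono (α.app Z) := fun Z => mono_suppIncl F _
  haveI : Mono α := NatTrans.mono_of_mono_app α
  haveI : IsConnected I := IsFiltered.isConnected I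
  have : Mono d := by
    haveI : IsFiltered (AsSmall.{u + 1} I) := IsFiltered.of_equivalence AsSmall.equiv
    haveI : IsConnected (AsSmall.{u + 1} I) := IsFiltered.isConnected _
    haveI : (AsSmall.down (C := I) : AsSmall.{u + 1} I ⥤ I).Final := inferInstanceAs (AsSmall.equiv.inverse).Final
    let α' : AsSmall.down ⋙ D ⟶ (Functor.const (AsSmall.{u + 1} I)).obj F :=
      { app := fun Z => suppIncl F _, naturality := fun _ _ f => (Category.comp_id _).symm }
    haveI : ∀ Z, Mono (α'.app Z) := fun Z => mono_suppIncl F _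
    haveI : Mono α' := NatTrans.mono_of_mono_app α'
    exact colim.map_mono' α' ((Functor.Final.isColimitWhiskerEquiv AsSmall.down _).symm (colimit.isColimit D))
      (isColimitConstCocone _ F) d fun Z => (colimit.ι_desc _ _).trans (Category.comp_id (α'.app Z)).symm
  have : Epi d := EtTorLib.epi_of_locally' d fun U s p => by
    obtain ⟨A, hA, hpA, -⟩ := exists_isAffineOpen_mem_and_subset (U := (⊤ : U.left.Opens)) (x := p) trivial
    let V := EtTorLib.openObj U A
    let g := EtTorLib.openHom U A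
    haveI : IsAffine V.left := hA
    let s' := F.obj.map g.op s
    obtain ⟨Z, hZ, hZE, hCZ⟩ := exists_closed_of_affine V (EtFound.germSupp F V s') (EtFound.isClosed_germSupp F V s') E hE
      ((germSupp_subset F V s').trans (Set.preimage_mono hF))
    have hmem : s' ∈ secs F Z V := fun Ω _ _ ξ z hz => by
      by_contra hne
      refine hz ?_
      rw [← EtFound.base_of_point z]
      exact hCZ ((EtFound.mem_germSupp_iff s' z).2 hne)
    let i : I := ⟨⟨Z, hZ⟩, hZE⟩
    refine ⟨V, g, ⟨p, hpA⟩, (colimit.ι D i).hom.app (op V) (⟨s', hmem⟩ : secs F Z V), ?_, rfl⟩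
    exact congrArg (fun r => r.hom.app (op V) (⟨s', hmem⟩ : secs F Z V)) (colimit.ι_desc ⟨F, α⟩ i)
  haveI : IsIso d := isIso_of_mono_of_epi d
  haveI := Groth.Agent.S0099.result X q I
  have hz : IsZero ((EtCoh.HF X q).obj (colimit D)) := by
    refine (IsZero.iff_id_eq_zero _).2 ((isColimitOfPreserves (EtCoh.HF X q) (colimit.isColimit D)).hom_ext fun Z => ?_)
    exact (@AddCommGrpCat.isZero_of_subsingleton _ (h Z.1 Z.1.isClosed Z.2)).eq_of_src _ _
  exact AddCommGrpCat.subsingleton_of_isZero (hz.of_iso ((EtCoh.HF X q).mapIso (asIso d).symm))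

end Groth.Agent.CurveCd
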