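import Groth.Agent.CurveCd.GenPt
import Groth.Agent.CurveCd.SuppSub
import Groth.Agent.EtContLib.ThenOps
import Groth.Agent.S14451

/-! peeling off a point -/

universe u

open CategoryTheory CategoryTheory.Limits AlgebraicGeometry Opposite CategoryTheory.Abelian

namespace Groth.Agent.CurveCd

set_option autoImplicit false
set_option maxHeartbeats 1000000
set_option synthInstance.maxHeartbeats 400000
set_option backward.isDefEq.respectTransparency false
set_option backward.isDefEq.respectTransparency.types false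
set_option linter.style.haveILetI false

variable {X : Scheme.{u}}

/-- stalks over the image vanish when the inverse image vanishes -/
theorem isZero_stalk_of_pull {Y : Scheme.{u}} (f : Y ⟶ X) (A : EtCoh.Ab X) (h : IsZero ((EtCoh.pull f).obj A))
    {Ω : Type u} [Field Ω] [IsSepClosed Ω] (ξ : Spec (CommRingCat.of Ω) ⟶ X)
    (hξ : ξ.base (default : Spec (CommRingCat.of Ω)) ∈ Set.range f.base) : IsZero ((EtCoh.stalk ξ).obj A) := by
  obtain ⟨k, _, _, z, e, he⟩ := EtFound.exists_lift_extension f ξ hξ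
  have h1 : IsZero ((EtCoh.stalk (z ≫ f)).obj A) :=
    ((EtCoh.stalk z).map_isZero h).of_iso ((EtFound.sheafFiberPullIso (A := AddCommGrpCat.{u + 1}) f z).app A).symm
  rw [← he] at h1
  exact h1.of_iso ((EtFound.stalkExtIso AddCommGrpCat.{u + 1} ξ e).app A)

variable (y : X)

/-- the inclusion of a point -/
noncomputable abbrev ptMor : Spec (X.residueField y) ⟶ X := X.fromSpecResidueField y

theorem counit_isIso (G : EtCoh.Ab (Spec (X.residueField y))) :
    IsIso ((EtCoh.pullPushAdj (ptMor y)).counit.app G) :=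
  EtFound.counit_isIso (A := AddCommGrpCat.{u + 1}) (ptMor y) (liftable_fromSpecResidueField y) G

theorem pull_unit_isIso (F : EtCoh.Ab X) :
    IsIso ((EtCoh.pull (ptMor y)).map ((EtCoh.pullPushAdj (ptMor y)).unit.app F)) :=
  haveI := counit_isIso y ((EtCoh.pull (ptMor y)).obj F)
  @IsIso.of_isIso_fac_right _ _ _ _ _ _ _ _ this (IsIso.id _) ((EtCoh.pullPushAdj (ptMor y)).left_triangle_components F)

theorem isZero_stalk_push_outside (G : EtCoh.Ab (Spec (X.residueField y))) {Ω : Type u} [Field Ω] [IsSepClosed Ω]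
    (ξ : Spec (CommRingCat.of Ω) ⟶ X) (hξ : ξ.base (default : Spec (CommRingCat.of Ω)) ∉ closure {y}) :
    IsZero ((EtCoh.stalk ξ).obj ((EtCoh.push (ptMor y)).obj G)) := by
  obtain ⟨h⟩ := EtFound.nonempty_unique_stalk (A := AddCommGrpCat.{u + 1}) isClosed_closure
    ((EtCoh.push (ptMor y)).obj G) (fun V hV => EtFound.push_unique_of_disjoint (ptMor y) G V (hV.mono_right (by
      rw [Scheme.range_fromSpecResidueField]; exact subset_closure))) ξ hξ
  exact @AddCommGrpCat.isZero_of_subsingleton _ ⟨fun a b => (h.eq_default a).trans (h.eq_default b).symm⟩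

theorem mem_of_supp {A : EtCoh.Ab X} {x : X} (hx : x ∈ EtPBC.supp A) :
    ∃ (Ω : Type u) (_ : Field Ω) (_ : IsSepClosed Ω) (ξ : Spec (CommRingCat.of Ω) ⟶ X),
      ξ.base (default : Spec (CommRingCat.of Ω)) = x ∧ ¬ IsZero ((EtCoh.stalk ξ).obj A) := by
  obtain ⟨Ω, _, _, ξ, hξ, hz⟩ := hx
  rw [EtFound.range_point, Set.singleton_eq_singleton_iff] at hξ
  exact ⟨Ω, _, inferInstance, ξ, hξ, hz⟩

theorem notMem_supp_of_pull {A : EtCoh.Ab X} (h : IsZero ((EtCoh.pull (ptMor y)).obj A)) : y ∉ EtPBC.supp A := by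
  intro hy
  obtain ⟨Ω, _, _, ξ, hξ, hz⟩ := mem_of_supp hy
  exact hz (isZero_stalk_of_pull (ptMor y) A h ξ (by rw [hξ, Scheme.range_fromSpecResidueField]; rfl))

/-- cokernels of maps of sheaves pushed from the point, which are surjective there -/
theorem supp_cokernel_push {A : EtCoh.Ab X} {G : EtCoh.Ab (Spec (X.residueField y))}
    (a : A ⟶ (EtCoh.push (ptMor y)).obj G) (ha : Epi ((EtCoh.pull (ptMor y)).map a)) :
    EtPBC.supp (cokernel a) ⊆ closure {y} \ {y} := by
  intro x hx
  refine ⟨?_, fun hxy => ?_⟩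
  · by_contra hne
    obtain ⟨Ω, _, _, ξ, hξ, hz⟩ := mem_of_supp hx
    exact hz (IsZero.of_epi ((EtCoh.stalk ξ).map (cokernel.π a)) (isZero_stalk_push_outside y G ξ (hξ ▸ hne)))
  · haveI := ha
    haveI := (EtCoh.pullPushAdj (ptMor y)).leftAdjoint_preservesColimits
    refine notMem_supp_of_pull y ?_ (Set.mem_singleton_iff.1 hxy ▸ hx)
    refine IsZero.of_epi_eq_zero ((EtCoh.pull (ptMor y)).map (cokernel.π a))
      ((cancel_epi ((EtCoh.pull (ptMor y)).map a)).1 ?_)
    rw [← Functor.map_comp, cokernel.condition, comp_zero, Functor.map_zero]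

/-- the unit at the point -/
noncomputable abbrev ptUnit (F : EtCoh.Ab X) : F ⟶ (EtCoh.push (ptMor y)).obj ((EtCoh.pull (ptMor y)).obj F) :=
  (EtCoh.pullPushAdj (ptMor y)).unit.app F

theorem supp_kernel_unit (F : EtCoh.Ab X) : EtPBC.supp (kernel (ptUnit y F)) ⊆ EtPBC.supp F \ {y} := by
  let η := ptUnit y F
  haveI := pull_unit_isIso y F
  haveI := EtContLib.pfl (ptMor y)
  intro x hx
  refine ⟨?_, fun hxy => notMem_supp_of_pull y ?_ (Set.mem_singleton_iff.1 hxy ▸ hx)⟩
  · obtain ⟨Ω, i1, i2, ξ, hξ, hz⟩ := mem_of_supp hx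
    refine ⟨Ω, i1, i2, ξ, by rw [EtFound.range_point, hξ], fun h0 => hz ?_⟩
    exact IsZero.of_mono ((EtCoh.stalk ξ).map (kernel.ι η)) h0
  · refine IsZero.of_mono_eq_zero ((EtCoh.pull (ptMor y)).map (kernel.ι η)) ((cancel_mono ((EtCoh.pull (ptMor y)).map η)).1 ?_)
    rw [← Functor.map_comp, kernel.condition, Functor.map_zero, zero_comp]

theorem supp_cokernel_unit (F : EtCoh.Ab X) : EtPBC.supp (cokernel (ptUnit y F)) ⊆ closure {y} \ {y} := by
  haveI := pull_unit_isIso y F
  exact supp_cokernel_push y (ptUnit y F) inferInstance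

/-- peeling off a point -/
theorem subsingleton_H_of_step (F : EtCoh.Ab X) (i : ℕ)
    (hpush : Subsingleton (EtCoh.H X ((EtCoh.push (ptMor y)).obj ((EtCoh.pull (ptMor y)).obj F)) (i + 1)))
    (h3 : Subsingleton (EtCoh.H X (kernel (ptUnit y F)) (i + 1)))
    (h4 : Subsingleton (EtCoh.H X (cokernel (ptUnit y F)) i)) :
    Subsingleton (EtCoh.H X F (i + 1)) := by
  let η := ptUnit y F
  have h1 : (ShortComplex.mk (kernel.ι η) (factorThruImage η) (by
      rw [← cancel_mono (Limits.image.ι η), Category.assoc, Limits.image.fac, kernel.condition, zero_comp])).ShortExact :=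
    { exact := ShortComplex.exact_of_f_is_kernel _ (KernelFork.IsLimit.ofι' _ _ fun {W} k hk =>
        ⟨kernel.lift η k (by rw [← Limits.image.fac η, reassoc_of% hk, zero_comp]), kernel.lift_ι _ _ _⟩) }
  have h2 : (ShortComplex.mk (Limits.image.ι η) (cokernel.π η) (by
      rw [← cancel_epi (factorThruImage η), Limits.image.fac_assoc, cokernel.condition, comp_zero])).ShortExact :=
    { exact := ShortComplex.exact_of_g_is_cokernel _ (CokernelCofork.IsColimit.ofπ' _ _ fun {W} k hk =>
        ⟨cokernel.desc η k (by rw [← Limits.image.fac η, Category.assoc, hk, comp_zero]), cokernel.π_desc _ _ _⟩) }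
  haveI h5 : Subsingleton (EtCoh.H X (Limits.image η) (i + 1)) := subsingleton_of_forall_eq 0 fun x => by
    obtain ⟨z, rfl⟩ := Ext.covariant_sequence_exact₁ _ h2 x (@Subsingleton.elim _ hpush _ _) rfl
    rw [@Subsingleton.elim _ h4 z 0, Ext.zero_comp]
  refine subsingleton_of_forall_eq 0 fun x => ?_
  obtain ⟨z, rfl⟩ := Ext.covariant_sequence_exact₂ _ h1 x (@Subsingleton.elim _ h5 _ _)
  rw [@Subsingleton.elim _ h3 z 0, Ext.zero_comp]

/-- direct images of point acyclic sheaves -/
theorem subsingleton_H_push_of_ptAcyclic (G : EtCoh.Ab (Spec (X.residueField y)))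
    (hG : FieldCd.IsPtAcyclic (k := X.residueField y) G)
    (i : ℕ) (h : Subsingleton (EtCoh.H (Spec (X.residueField y)) G i)) :
    Subsingleton (EtCoh.H X ((EtCoh.push (ptMor y)).obj G) i) := by
  haveI := EtContLib.pfl (ptMor y)
  haveI := h
  exact (Groth.Agent.S14451.result (ptMor y) G
    (fun q hq => FieldCd.isZero_Rpush_of_isPtAcyclic (k := X.residueField y) (ptMor y) hG q hq) i).1.subsingleton

/-- direct images of sheaves on points of cohomological dimension one -/
theorem subsingleton_H_push_of_dim_one (G : EtCoh.Ab (Spec (X.residueField y)))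
    (hG : ∀ (T : (Spec (X.residueField y)).Etale), Nonempty T.left → Subsingleton T.left → ∀ i : ℕ, 2 ≤ i →
      Subsingleton (EtCoh.H T.left ((EtCoh.pull T.hom).obj G) i))
    (i : ℕ) (h : Subsingleton (EtCoh.H (Spec (X.residueField y)) G (i + 2)))
    (h' : Subsingleton (EtCoh.H (Spec (X.residueField y)) G (i + 3)))
    (hC : ∀ A : EtCoh.Ab X, EtPBC.supp A ⊆ closure {y} \ {y} → Subsingleton (EtCoh.H X A (i + 1))) :
    Subsingleton (EtCoh.H X ((EtCoh.push (ptMor y)).obj G) (i + 3)) := by
  haveI := EtContLib.pfl (ptMor y)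
  let E := ShortComplex.mk (Injective.ι G) (cokernel.π _) (cokernel.condition (Injective.ι G))
  have hE : E.ShortExact := { exact := ShortComplex.exact_of_g_is_cokernel _ (cokernelIsCokernel _) }
  haveI : Injective E.X₂ := inferInstanceAs (Injective (Injective.under G))
  have hQ : FieldCd.IsPtAcyclic (k := X.residueField y) E.X₃ := by
    intro T hne hT n hn
    haveI : AlgebraicGeometry.Etale T.hom := T.prop
    haveI := EtFound.jCont T.hom
    have hE' : (E.map (EtCoh.pull T.hom)).ShortExact :=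
      EtLC12.AffineLocalAcyclic.shortExact_pull (T.hom : T.left ⟶ _) hE
    haveI : Injective (E.map (EtCoh.pull T.hom)).X₂ := EtLC12.AffineLocalAcyclic.injective_pull T.hom E.X₂
    haveI : ∀ k', Subsingleton (Sheaf.H (E.map (EtCoh.pull T.hom)).X₂ (k' + 1)) := fun k' =>
      subsingleton_of_forall_eq 0 fun x => Abelian.Ext.eq_zero_of_injective x
    obtain ⟨m, rfl⟩ := Nat.exists_eq_add_of_le hn
    rw [add_comm]
    obtain ⟨e⟩ := Adeq2Lib.ZarCmp.shift _ hE' m
    haveI : Subsingleton (Sheaf.H (E.map (EtCoh.pull T.hom)).X₁ (m + 1 + 1)) := hG T hne hT _ (by omega)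
    exact e.toEquiv.subsingleton
  haveI : PreservesFiniteLimits (EtCoh.push (ptMor y)) :=
    haveI := (EtCoh.pullPushAdj (ptMor y)).rightAdjoint_preservesLimits
    PreservesLimitsOfSize.preservesFiniteLimits.{0, 0} _
  let P := EtCoh.push (ptMor y)
  haveI : Injective (P.obj E.X₂) := Injective.injective_of_adjoint (EtCoh.pullPushAdj (ptMor y)) E.X₂
  let a := P.map E.g
  have hker : (ShortComplex.mk (P.map E.f) (factorThruImage a) ((cancel_mono (Limits.image.ι a)).1
      ((Category.assoc _ _ _).trans ((congrArg (P.map E.f ≫ ·) (Limits.image.fac a)).trans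
        (((P.map_comp _ _).symm.trans ((congrArg P.map E.zero).trans (P.map_zero _ _))).trans
          zero_comp.symm))))).ShortExact :=
    haveI : Mono E.f := hE.mono_f
    haveI : Mono (P.map E.f) := inferInstance
    { exact := by
        haveI : Mono (E.map P).f := inferInstanceAs (Mono (P.map E.f))
        have h0 : (E.map P).Exact := (hE.exact.map_of_mono_of_preservesKernel P hE.mono_f inferInstance)
        refine ShortComplex.exact_of_f_is_kernel _ (KernelFork.IsLimit.ofι' _ _ fun {W} k hk => ?_)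
        have hk' : k ≫ a = 0 := (congrArg (k ≫ ·) (Limits.image.fac a)).symm.trans
          ((Category.assoc _ _ _).symm.trans ((congrArg (· ≫ Limits.image.ι a) hk).trans zero_comp))
        exact KernelFork.IsLimit.lift' h0.fIsKernel k hk' }
  have hcok : (ShortComplex.mk (Limits.image.ι a) (cokernel.π a) (by
      rw [← cancel_epi (factorThruImage a), Limits.image.fac_assoc, cokernel.condition, comp_zero])).ShortExact :=
    { exact := ShortComplex.exact_of_g_is_cokernel _ (CokernelCofork.IsColimit.ofπ' _ _ fun {W} k hk =>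
        ⟨cokernel.desc a k (by rw [← Limits.image.fac a, Category.assoc, hk, comp_zero]), cokernel.π_desc _ _ _⟩) }
  have hepi : Epi ((EtCoh.pull (ptMor y)).map a) := by
    haveI := counit_isIso y E.X₂
    haveI := counit_isIso y E.X₃
    haveI : Epi E.g := hE.epi_g
    have hn := (EtCoh.pullPushAdj (ptMor y)).counit.naturality E.g
    have : (EtCoh.pull (ptMor y)).map a = ((EtCoh.pullPushAdj (ptMor y)).counit.app E.X₂ ≫ E.g) ≫
        inv ((EtCoh.pullPushAdj (ptMor y)).counit.app E.X₃) := by
      rw [IsIso.eq_comp_inv]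
      exact hn
    rw [this]
    exact epi_comp _ _
  have hQ3 : Subsingleton (EtCoh.H X (P.obj E.X₃) (i + 2)) :=
    subsingleton_H_push_of_ptAcyclic y E.X₃ hQ (i + 2) (subsingleton_of_forall_eq 0 fun x => by
      obtain ⟨z, rfl⟩ := Ext.covariant_sequence_exact₃ _ hE x (rfl : i + 2 + 1 = _) (@Subsingleton.elim _ h' _ _)
      rw [Ext.eq_zero_of_injective z, Ext.zero_comp])
  have hC1 : Subsingleton (EtCoh.H X (cokernel a) (i + 1)) := hC _ (supp_cokernel_push y a hepi)
  have hI : Subsingleton (EtCoh.H X (Limits.image a) (i + 2)) := subsingleton_of_forall_eq 0 fun x => by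
    obtain ⟨z, rfl⟩ := Ext.covariant_sequence_exact₁ _ hcok x (@Subsingleton.elim _ hQ3 _ _) rfl
    rw [@Subsingleton.elim _ hC1 z 0, Ext.zero_comp]
  refine subsingleton_of_forall_eq 0 fun x => ?_
  obtain ⟨z, rfl⟩ := Ext.covariant_sequence_exact₁ _ hker x (Ext.eq_zero_of_injective _) (rfl : i + 2 + 1 = _)
  rw [@Subsingleton.elim _ hI z 0, Ext.zero_comp]

end Groth.Agent.CurveCd
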